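import Mathlib

/-!
# Nagata's criterion for factoriality

`Nagata.ufd_of_away`: for a Noetherian domain `R` and a prime element `s`, if a localization of `R`
away from `s` is a UFD then so is `R`.
-/

namespace Groth.Agent.Lib.Helper24.Nagata

open Ideal

theorem dvd_of_pow_mul_eq {R : Type*} [CommRing R] [IsDomain R] {s z : R} (hp : Prime s)
    (hz : ¬ s ∣ z) : ∀ (n : ℕ) (a c : R), s ^ n * a = z * c → z ∣ a := by
  intro n
  induction n with
  | zero => intro a c h; exact ⟨c, by simpa using h⟩
  | succ n ih =>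
    intro a c h
    have h1 : s ∣ z * c := ⟨s ^ n * a, by rw [← h]; ring⟩
    rcases hp.dvd_or_dvd h1 with h2 | h2
    · exact absurd h2 hz
    · obtain ⟨c', rfl⟩ := h2
      apply ih a c'
      have : s * (s ^ n * a) = s * (z * c') := by rw [← mul_assoc, ← pow_succ', h]; ring
      exact mul_left_cancel₀ hp.ne_zero this

theorem ufd_of_away {R : Type*} [CommRing R] [IsDomain R] [IsNoetherianRing R] (s : R)
    (hp : Prime s) (S : Type*) [CommRing S] [Algebra R S] [IsLocalization.Away s S]
    (h : UniqueFactorizationMonoid S) : UniqueFactorizationMonoid R := by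
  have hle : Submonoid.powers s ≤ nonZeroDivisors R :=
    Submonoid.powers_le.mpr (mem_nonZeroDivisors_of_ne_zero hp.ne_zero)
  have hinj : Function.Injective (algebraMap R S) := IsLocalization.injective S hle
  haveI : IsDomain S := IsLocalization.isDomain_of_le_nonZeroDivisors S hle
  have hunit : ∀ n : ℕ, IsUnit (algebraMap R S (s ^ n)) := fun n => by
    rw [map_pow]; exact (IsLocalization.Away.algebraMap_isUnit s).pow n
  apply UniqueFactorizationMonoid.iff_exists_prime_mem_of_isPrime.mpr
  intro I hI hIp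
  by_cases hsI : s ∈ I
  · exact ⟨s, hsI, hp⟩
  have hdisj : Disjoint (Submonoid.powers s : Set R) (I : Set R) := by
    rw [Set.disjoint_left]
    rintro x ⟨n, rfl⟩ hx
    exact hsI (hIp.mem_of_pow_mem n hx)
  set J := I.map (algebraMap R S) with hJ
  have hJp : J.IsPrime := IsLocalization.isPrime_of_isPrime_disjoint (Submonoid.powers s) S I hIp hdisj
  have hJc : J.comap (algebraMap R S) = I :=
    IsLocalization.comap_map_of_isPrime_disjoint (Submonoid.powers s) S hIp hdisj
  have hJ0 : J ≠ ⊥ := by
    intro h0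
    apply hI
    rw [eq_bot_iff]
    intro x hx
    have : algebraMap R S x ∈ J := Ideal.mem_map_of_mem _ hx
    rw [h0, Ideal.mem_bot] at this
    rw [Ideal.mem_bot]
    exact hinj (by rw [this, map_zero])
  obtain ⟨q, hqJ, hq⟩ := hJp.exists_mem_prime_of_ne_bot hJ0
  obtain ⟨⟨y, ⟨_, n, rfl⟩⟩, hy⟩ := IsLocalization.surj (Submonoid.powers s) q
  simp only at hy
  -- hy : q * algebraMap (s^n) = algebraMap y
  have hy0 : y ≠ 0 := by
    rintro rfl
    rw [map_zero] at hy
    rcases mul_eq_zero.mp hy with h1 | h1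
    · exact hq.ne_zero h1
    · exact (hunit n).ne_zero h1
  have hsirr : Irreducible s := hp.irreducible
  obtain ⟨m, z, hsz, hyz⟩ := WfDvdMonoid.max_power_factor hy0 hsirr
  -- algebraMap z is associated to q
  have hassoc : Associated q (algebraMap R S z) := by
    have h1 : q * algebraMap R S (s ^ n) = algebraMap R S (s ^ m) * algebraMap R S z := by
      rw [hy, hyz, map_mul]
    obtain ⟨u1, hu1⟩ := hunit n
    obtain ⟨u2, hu2⟩ := hunit m
    refine ⟨u1 * u2⁻¹, ?_⟩
    rw [Units.val_mul, ← mul_assoc, hu1, h1, ← hu2, mul_comm (u2 : S), mul_assoc, Units.mul_inv,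
      mul_one]
  have hzprimeS : Prime (algebraMap R S z) := hassoc.prime hq
  have hzJ : algebraMap R S z ∈ J := by
    obtain ⟨u, hu⟩ := hassoc
    rw [← hu]
    exact J.mul_mem_right _ hqJ
  have hzI : z ∈ I := by
    rw [← hJc]; exact hzJ
  refine ⟨z, hzI, ?_, ?_, ?_⟩
  · rintro rfl
    exact hzprimeS.ne_zero (map_zero _)
  · intro hu
    exact hzprimeS.not_unit (hu.map _)
  · intro a b hab
    have h1 : algebraMap R S z ∣ algebraMap R S a * algebraMap R S b := by
      rw [← map_mul]; exact map_dvd _ hab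
    have key : ∀ a : R, algebraMap R S z ∣ algebraMap R S a → z ∣ a := by
      intro a ⟨t, ht⟩
      obtain ⟨⟨c, ⟨_, k, rfl⟩⟩, hc⟩ := IsLocalization.surj (Submonoid.powers s) t
      simp only at hc
      have h2 : algebraMap R S (s ^ k * a) = algebraMap R S (z * c) := by
        rw [map_mul, map_mul, ht, ← hc]; ring
      exact dvd_of_pow_mul_eq hp hsz k a c (hinj h2)
    rcases hzprimeS.dvd_or_dvd h1 with h2 | h2
    · exact Or.inl (key a h2)
    · exact Or.inr (key b h2)

end Groth.Agent.Lib.Helper24.Nagata
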