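import Mathlib
import Groth.Agent.Lib.Helper24.UFD.Nagata

/-!
# `R[1/s] ≅ R_(s)[T, T⁻¹]` for `s` homogeneous of degree one in an `ℕ`-graded domain
-/

namespace Groth.Agent.Lib.Helper24.AwayLaurent

open HomogeneousLocalization LaurentPolynomial

universe u v

variable {K : Type u} [CommRing K] {R : Type v} [CommRing R] [Algebra K R]
  (𝒜 : ℕ → Submodule K R) [GradedAlgebra 𝒜] (s : R) (hs : s ∈ 𝒜 1)

/-- `r / s^d` for `r` homogeneous of degree `d`. -/
noncomputable def mkA (d : ℕ) (r : R) (hr : r ∈ 𝒜 d) : Away 𝒜 s :=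
  Away.mk 𝒜 hs d r (by rw [smul_eq_mul, mul_one]; exact hr)

theorem val_mkA_mul (d : ℕ) (r : R) (hr : r ∈ 𝒜 d) :
    (mkA 𝒜 s hs d r hr).val * (algebraMap R (Localization.Away s) s) ^ d =
      algebraMap R (Localization.Away s) r := by
  rw [mkA, Away.val_mk, ← map_pow, Localization.mk_eq_mk']
  exact IsLocalization.mk'_spec _ r ⟨s ^ d, _⟩

theorem isUnit_s : IsUnit (algebraMap R (Localization.Away s) s) :=
  IsLocalization.Away.algebraMap_isUnit s

/-- characterization of `mkA`. -/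
theorem eq_mkA_of_val_mul (d : ℕ) (r : R) (hr : r ∈ 𝒜 d) (a : Away 𝒜 s)
    (h : a.val * (algebraMap R (Localization.Away s) s) ^ d =
      algebraMap R (Localization.Away s) r) : a = mkA 𝒜 s hs d r hr := by
  apply HomogeneousLocalization.val_injective
  have h2 := val_mkA_mul 𝒜 s hs d r hr
  exact ((isUnit_s s).pow d).mul_left_injective (h.trans h2.symm)

theorem mkA_add (d : ℕ) (r r' : R) (hr : r ∈ 𝒜 d) (hr' : r' ∈ 𝒜 d) :
    mkA 𝒜 s hs d (r + r') (add_mem hr hr') = mkA 𝒜 s hs d r hr + mkA 𝒜 s hs d r' hr' := by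
  symm
  apply eq_mkA_of_val_mul
  rw [val_add, add_mul, val_mkA_mul, val_mkA_mul, map_add]

theorem mkA_mul (d e : ℕ) (r r' : R) (hr : r ∈ 𝒜 d) (hr' : r' ∈ 𝒜 e) :
    mkA 𝒜 s hs (d + e) (r * r') (SetLike.mul_mem_graded hr hr') =
      mkA 𝒜 s hs d r hr * mkA 𝒜 s hs e r' hr' := by
  symm
  apply eq_mkA_of_val_mul
  rw [val_mul, pow_add, mul_mul_mul_comm, val_mkA_mul, val_mkA_mul, map_mul]

theorem mkA_one : mkA 𝒜 s hs 0 1 SetLike.GradedOne.one_mem = 1 := by
  symm
  apply eq_mkA_of_val_mul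
  rw [val_one, pow_zero, mul_one, map_one]

theorem mkA_s : mkA 𝒜 s hs 1 s hs = 1 := by
  symm
  apply eq_mkA_of_val_mul
  rw [val_one, pow_one, one_mul]

theorem mkA_congr (d : ℕ) (r r' : R) (hr : r ∈ 𝒜 d) (hr' : r' ∈ 𝒜 d) (h : r = r') :
    mkA 𝒜 s hs d r hr = mkA 𝒜 s hs d r' hr' := by
  subst h; rfl

/-- the component maps. -/
noncomputable def comp (d : ℕ) : 𝒜 d →+ (Away 𝒜 s)[T;T⁻¹] where
  toFun r := C (mkA 𝒜 s hs d r.1 r.2) * T d
  map_zero' := by
    have : mkA 𝒜 s hs d 0 (zero_mem _) = 0 := by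
      symm; apply eq_mkA_of_val_mul; rw [val_zero, zero_mul, map_zero]
    simp only [ZeroMemClass.coe_zero]
    rw [this, map_zero, zero_mul]
  map_add' r r' := by
    simp only [Submodule.coe_add]
    rw [mkA_add 𝒜 s hs d r.1 r'.1 r.2 r'.2, map_add, add_mul]

/-- `R → R_(s)[T,T⁻¹]`. -/
noncomputable def psi0 : R →+* (Away 𝒜 s)[T;T⁻¹] :=
  (DirectSum.toSemiring (comp 𝒜 s hs)
    (by
      show C (mkA 𝒜 s hs 0 _ _) * T _ = 1
      rw [mkA_congr 𝒜 s hs 0 _ 1 _ SetLike.GradedOne.one_mem (SetLike.coe_gOne 𝒜), mkA_one]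
      simp)
    (by
      intro i j ai aj
      show C (mkA 𝒜 s hs (i + j) _ _) * T _ = (C (mkA 𝒜 s hs i _ _) * T _) * (C (mkA 𝒜 s hs j _ _) * T _)
      rw [mkA_congr 𝒜 s hs (i + j) _ (ai.1 * aj.1) _ (SetLike.mul_mem_graded ai.2 aj.2)
        (SetLike.coe_gMul 𝒜 ai aj),
        mkA_mul 𝒜 s hs i j ai.1 aj.1 ai.2 aj.2, map_mul, Nat.cast_add, T_add]
      ring)).comp (DirectSum.decomposeRingEquiv 𝒜).toRingHom

theorem psi0_of_mem (d : ℕ) (r : R) (hr : r ∈ 𝒜 d) :
    psi0 𝒜 s hs r = C (mkA 𝒜 s hs d r hr) * T d := by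
  rw [psi0, RingHom.comp_apply]
  show DirectSum.toSemiring _ _ _ (DirectSum.decompose 𝒜 r) = _
  rw [DirectSum.decompose_of_mem 𝒜 hr, DirectSum.toSemiring_of]
  rfl

theorem psi0_s : psi0 𝒜 s hs s = T 1 := by
  rw [psi0_of_mem 𝒜 s hs 1 s hs, mkA_s]; simp

/-- `R[1/s] → R_(s)[T,T⁻¹]`. -/
noncomputable def psi : Localization.Away s →+* (Away 𝒜 s)[T;T⁻¹] :=
  IsLocalization.Away.lift s (g := psi0 𝒜 s hs) (by rw [psi0_s]; exact isUnit_T 1)

theorem psi_algebraMap (r : R) : psi 𝒜 s hs (algebraMap R _ r) = psi0 𝒜 s hs r := by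
  rw [psi]; exact IsLocalization.Away.lift_eq s _ r

/-- the unit `s`. -/
noncomputable def uS : (Localization.Away s)ˣ := (isUnit_s s).unit

theorem uS_val : (uS s : Localization.Away s) = algebraMap R _ s := rfl

/-- `R_(s)[T,T⁻¹] → R[1/s]`. -/
noncomputable def phi : (Away 𝒜 s)[T;T⁻¹] →+* Localization.Away s :=
  LaurentPolynomial.eval₂ (algebraMap (Away 𝒜 s) (Localization.Away s)) (uS s)

theorem phi_C_mul_T_nat (a : Away 𝒜 s) (d : ℕ) :
    phi 𝒜 s (C a * T d) = a.val * (algebraMap R (Localization.Away s) s) ^ d := by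
  rw [phi, eval₂_C_mul_T_n, HomogeneousLocalization.algebraMap_apply, uS_val]

theorem phi_psi0 (r : R) : phi 𝒜 s (psi0 𝒜 s hs r) = algebraMap R _ r := by
  induction r using DirectSum.Decomposition.inductionOn 𝒜 with
  | zero => simp
  | homogeneous m =>
    rename_i d
    rw [psi0_of_mem 𝒜 s hs d m.1 m.2, phi_C_mul_T_nat, val_mkA_mul]
  | add a b ha hb => rw [map_add, map_add, ha, hb, map_add]

theorem phi_psi (x : Localization.Away s) : phi 𝒜 s (psi 𝒜 s hs x) = x := by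
  have : (phi 𝒜 s).comp (psi 𝒜 s hs) = RingHom.id _ := by
    apply IsLocalization.ringHom_ext (Submonoid.powers s)
    ext r
    simp only [RingHom.comp_apply, RingHom.id_apply]
    rw [psi_algebraMap, phi_psi0]
  exact congrArg (fun f => f x) this

/-- the unit `T`. -/
noncomputable def tU : ((Away 𝒜 s)[T;T⁻¹])ˣ :=
  ⟨T 1, T (-1), by rw [← T_add]; simp, by rw [← T_add]; simp⟩

theorem tU_zpow (n : ℤ) : ((tU 𝒜 s ^ n : ((Away 𝒜 s)[T;T⁻¹])ˣ) : (Away 𝒜 s)[T;T⁻¹]) = T n := by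
  induction n using Int.induction_on with
  | zero => simp
  | succ k ih =>
    rw [zpow_add_one, Units.val_mul, ih, T_add]; rfl
  | pred k ih =>
    rw [zpow_sub_one, Units.val_mul, ih, sub_eq_add_neg, T_add]; rfl

theorem psi_uS_zpow (n : ℤ) :
    psi 𝒜 s hs ((uS s ^ n : (Localization.Away s)ˣ) : Localization.Away s) = T n := by
  have h1 : Units.map (psi 𝒜 s hs : Localization.Away s →* _) (uS s) = tU 𝒜 s := by
    ext
    simp only [Units.coe_map, MonoidHom.coe_coe]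
    rw [uS_val, psi_algebraMap, psi0_s]; rfl
  have h2 : Units.map (psi 𝒜 s hs : Localization.Away s →* _) (uS s ^ n) = tU 𝒜 s ^ n := by
    rw [map_zpow, h1]
  have h3 := congrArg Units.val h2
  rw [tU_zpow, Units.coe_map] at h3
  exact h3

theorem psi_val (a : Away 𝒜 s) : psi 𝒜 s hs a.val = C a := by
  obtain ⟨d, r, hr, rfl⟩ := Away.mk_surjective 𝒜 hs a
  have hr' : r ∈ 𝒜 d := by rw [smul_eq_mul, mul_one] at hr; exact hr
  have h1 := val_mkA_mul 𝒜 s hs d r hr'
  have h2 := congrArg (psi 𝒜 s hs) h1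
  rw [map_mul, map_pow, psi_algebraMap, psi_algebraMap, psi0_s, psi0_of_mem 𝒜 s hs d r hr',
    T_pow, mul_one] at h2
  exact (isUnit_T (d : ℤ)).mul_left_injective h2

theorem psi_phi (p : (Away 𝒜 s)[T;T⁻¹]) : psi 𝒜 s hs (phi 𝒜 s p) = p := by
  induction p using LaurentPolynomial.induction_on' with
  | add p q hp hq => rw [map_add, map_add, hp, hq]
  | C_mul_T n a =>
    rw [phi, eval₂_C_mul_T, map_mul, psi_uS_zpow, HomogeneousLocalization.algebraMap_apply,
      psi_val]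

/-- The isomorphism `R_(s)[T,T⁻¹] ≃ R[1/s]`. -/
noncomputable def equiv : (Away 𝒜 s)[T;T⁻¹] ≃+* Localization.Away s :=
  RingEquiv.ofRingHom (phi 𝒜 s) (psi 𝒜 s hs)
    (RingHom.ext (phi_psi 𝒜 s hs)) (RingHom.ext (psi_phi 𝒜 s hs))

include hs in
theorem main [IsDomain R] [IsNoetherianRing R] (hp : Prime s)
    (h : UniqueFactorizationMonoid (Away 𝒜 s)) : UniqueFactorizationMonoid R := by
  have hle : Submonoid.powers s ≤ nonZeroDivisors R :=
    Submonoid.powers_le.mpr (mem_nonZeroDivisors_of_ne_zero hp.ne_zero)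
  haveI : IsDomain (Localization.Away s) := IsLocalization.isDomain_localization hle
  haveI : IsDomain (Away 𝒜 s) :=
    Function.Injective.isDomain (algebraMap (Away 𝒜 s) (Localization.Away s))
      (fun a b hab => HomogeneousLocalization.val_injective _ (by simpa using hab))
  haveI : UniqueFactorizationMonoid (Polynomial (Away 𝒜 s)) := inferInstance
  haveI : UniqueFactorizationMonoid ((Away 𝒜 s)[T;T⁻¹]) :=
    UniqueFactorizationMonoid.of_isLocalization
      (Submonoid.powers (Polynomial.X : Polynomial (Away 𝒜 s))) _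
  have h2 : UniqueFactorizationMonoid (Localization.Away s) :=
    (equiv 𝒜 s hs).toMulEquiv.uniqueFactorizationMonoid inferInstance
  exact Nagata.ufd_of_away s hp (Localization.Away s) h2

end Groth.Agent.Lib.Helper24.AwayLaurent
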